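/-
The normaliser of a root group of a natural `SL₂(F)`-module acts semilinearly on the two layers.
-/
import Cfsg.Agent.Lib.LocalEven.NaturalSL2
import Mathlib.FieldTheory.Fixed
import Mathlib.FieldTheory.Finite.Basic

set_option autoImplicit false

open CfsgLib.LocalEven.NaturalSL2
open scoped Pointwise MatrixGroups

namespace CfsgLib.LocalEvenB.SL2Spread

variable {X : Type*} [Group X]

/-- `G` acts faithfully on `V` by conjugation and contains `L`. -/
structure Ctx (V G L : Subgroup X) : Prop where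
  norm : G ≤ Subgroup.normalizer (V : Set X)
  faith : G ⊓ Subgroup.centralizer (V : Set X) = ⊥
  le : L ≤ G

variable {F : Type*} [Field F] {V G L T : Subgroup X} (C : Coord F V L T)

/-- The action of an element in coordinates. -/
noncomputable def phi (g : X) (v : Fin 2 → F) : Fin 2 → F :=
  Function.invFun C.c (g * C.c v * g⁻¹)

theorem c_phi (h : Ctx V G L) {g : X} (hg : g ∈ G) (v : Fin 2 → F) :
    C.c (phi C g v) = g * C.c v * g⁻¹ :=
  Function.invFun_eq (C.c_surj _ ((Subgroup.mem_normalizer_iff.1 (h.norm hg) _).1 (C.c_mem v)))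

theorem phi_mul (h : Ctx V G L) {a b : X} (ha : a ∈ G) (hb : b ∈ G) (v : Fin 2 → F) :
    phi C (a * b) v = phi C a (phi C b v) := by
  apply C.c_inj
  rw [c_phi C h (mul_mem ha hb), c_phi C h ha, c_phi C h hb]
  group

theorem phi_one (h : Ctx V G L) (v : Fin 2 → F) : phi C (1 : X) v = v := by
  apply C.c_inj
  rw [c_phi C h G.one_mem]
  simp

theorem phi_add (h : Ctx V G L) {g : X} (hg : g ∈ G) (v w : Fin 2 → F) :
    phi C g (v + w) = phi C g v + phi C g w := by
  apply C.c_inj
  rw [C.c_add, c_phi C h hg, c_phi C h hg, c_phi C h hg, C.c_add]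
  group

theorem phi_injective (h : Ctx V G L) {g : X} (hg : g ∈ G) : Function.Injective (phi C g) := by
  intro v w e
  have e' := congrArg C.c e
  rw [c_phi C h hg, c_phi C h hg] at e'
  exact C.c_inj (mul_left_cancel (mul_right_cancel e'))

theorem eq_one_of_phi (h : Ctx V G L) {g : X} (hg : g ∈ G) (he : ∀ v, phi C g v = v) : g = 1 := by
  have hc : g ∈ Subgroup.centralizer (V : Set X) := by
    refine Subgroup.mem_centralizer_iff.2 fun x hx => ?_
    obtain ⟨v, rfl⟩ := C.c_surj x hx
    have e := c_phi C h hg v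
    rw [he v] at e
    exact eq_mul_inv_iff_mul_eq.1 e
  simpa [h.faith] using Subgroup.mem_inf.2 ⟨hg, hc⟩

theorem phi_unip (h : Ctx V G L) {l : ↥L} {t : F}
    (hl : (C.ρ l : Matrix (Fin 2) (Fin 2) F) = !![1, t; 0, 1]) (v : Fin 2 → F) :
    phi C (l : X) v = ![v 0 + t * v 1, v 1] := by
  apply C.c_inj
  rw [c_phi C h (h.le l.2), C.conj_c hl]

theorem vec2_eq (v : Fin 2 → F) : v = ![v 0, v 1] := by
  ext i; fin_cases i <;> rfl

theorem phi_axis (h : Ctx V G L) {g : X} (hg : g ∈ G) (hT : g ∈ Subgroup.normalizer (T : Set X))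
    (x : F) : phi C g ![x, 0] 1 = 0 := by
  rw [← C.mem_axis, c_phi C h hg, ← C.centralizer_T]
  have hm : C.c ![x, 0] ∈ C.axis := ⟨x, rfl⟩
  rw [← C.centralizer_T] at hm
  refine ⟨(Subgroup.mem_normalizer_iff.1 (h.norm hg) _).1 hm.1, Subgroup.mem_centralizer_iff.2 fun s hs => ?_⟩
  have hs' : g⁻¹ * s * g ∈ T := by
    have := (Subgroup.mem_normalizer_iff.1 (inv_mem hT) s).1 hs
    rwa [inv_inv] at this
  have e := Subgroup.mem_centralizer_iff.1 hm.2 _ hs'
  calc s * (g * C.c ![x, 0] * g⁻¹) = g * (g⁻¹ * s * g * C.c ![x, 0]) * g⁻¹ := by group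
    _ = g * (C.c ![x, 0] * (g⁻¹ * s * g)) * g⁻¹ := by rw [e]
    _ = g * C.c ![x, 0] * g⁻¹ * s := by group

/-- The field map attached to an element. -/
noncomputable def sig (g : X) (x : F) : F := phi C g ![x, 0] 0 / phi C g ![1, 0] 0

theorem semilinear (h : Ctx V G L) {g : X} (hg : g ∈ G) (hT : g ∈ Subgroup.normalizer (T : Set X)) :
    ∃ (k m : F) (σ : F →+* F), k ≠ 0 ∧ m ≠ 0 ∧ (∀ x, sig C g x = σ x) ∧
      (∀ x, phi C g ![x, 0] = ![k * σ x, 0]) ∧ ∀ v, phi C g v 1 = m * σ (v 1) := by
  let α : F → F := fun x => phi C g ![x, 0] 0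
  let β : F → F := fun y => phi C g ![0, y] 1
  have hadd : ∀ x y, α (x + y) = α x + α y := fun x y => by
    show phi C g ![x + y, 0] 0 = _
    rw [show (![x + y, 0] : Fin 2 → F) = ![x, 0] + ![y, 0] by ext i; fin_cases i <;> simp,
      phi_add C h hg]
    rfl
  have hax : ∀ x, phi C g ![x, 0] = ![α x, 0] := fun x => by
    rw [vec2_eq (phi C g ![x, 0]), phi_axis C h hg hT]
  have hrel : ∀ t, ∃ τ, ∀ y, α (t * y) = τ * β y := by
    intro t
    obtain ⟨l, hlT, hl⟩ := C.exists_T t
    have hm := (Subgroup.mem_normalizer_iff.1 hT _).1 hlT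
    obtain ⟨l', τ, hl', hρ⟩ := C.exists_param hm
    refine ⟨τ, fun y => ?_⟩
    have e := phi_mul C h (hl' ▸ h.le l'.2) hg ![0, y]
    rw [show g * (l : X) * g⁻¹ * g = g * l by group, phi_mul C h hg (h.le l.2), ← hl',
      phi_unip C h hl, phi_unip C h hρ] at e
    simp only [Matrix.cons_val_zero, Matrix.cons_val_one, zero_add] at e
    rw [show (![t * y, y] : Fin 2 → F) = ![t * y, 0] + ![0, y] by ext i; fin_cases i <;> simp,
      phi_add C h hg, hax] at e
    have e0 := congrFun e 0
    simp only [Pi.add_apply, Matrix.cons_val_zero] at e0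
    linear_combination e0
  choose τ hτ using hrel
  have hne : ∀ x, x ≠ 0 → α x ≠ 0 := by
    intro x hx hα
    have e : phi C g ![x, 0] = phi C g 0 := by
      have h0 : phi C g 0 = (0 : Fin 2 → F) := by
        have := phi_add C h hg 0 0
        rwa [add_zero, left_eq_add] at this
      rw [h0, hax, hα]
      ext i; fin_cases i <;> rfl
    exact hx (by simpa using congrFun (phi_injective C h hg e) 0)
  have h11 : α 1 = τ 1 * β 1 := by simpa using hτ 1 1
  have hb1 : β 1 ≠ 0 := fun e => hne 1 one_ne_zero (by rw [h11, e, mul_zero])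
  have ht1 : τ 1 ≠ 0 := fun e => hne 1 one_ne_zero (by rw [h11, e, zero_mul])
  have hα : ∀ t, α t = τ t * β 1 := fun t => by simpa using hτ t 1
  have hβ : ∀ y, β y = β 1 * (τ y / τ 1) := fun y => by
    have e : α y = τ 1 * β y := by simpa using hτ 1 y
    field_simp
    linear_combination hα y - e
  let σ : F →+* F :=
    { toFun := fun x => τ x / τ 1
      map_one' := div_self ht1
      map_mul' := fun x y => by
        have e := hτ x y
        rw [hα (x * y), hβ y] at e
        field_simp at e ⊢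
        linear_combination e
      map_zero' := by
        have e := hadd 0 0
        rw [add_zero, left_eq_add, hα, mul_eq_zero] at e
        rw [e.resolve_right hb1, zero_div]
      map_add' := fun x y => by
        have e := hadd x y
        rw [hα, hα, hα] at e
        have e' : τ (x + y) = τ x + τ y := mul_right_cancel₀ hb1 (by linear_combination e)
        rw [e', add_div] }
  refine ⟨α 1, β 1, σ, hne 1 one_ne_zero, hb1, fun x => ?_, fun x => ?_, fun v => ?_⟩
  · show α x / α 1 = τ x / τ 1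
    rw [hα x, hα 1, mul_div_mul_right _ _ hb1]
  · rw [hax]
    congr 1
    show α x = α 1 * (τ x / τ 1)
    rw [hα x, hα 1]
    field_simp
  · conv_lhs => rw [show v = ![v 0, 0] + ![0, v 1] by ext i; fin_cases i <;> simp,
      phi_add C h hg, Pi.add_apply, phi_axis C h hg hT, zero_add]
    exact hβ (v 1)

theorem sig_mul (h : Ctx V G L) {a b : X} (ha : a ∈ G) (hb : b ∈ G)
    (ha' : a ∈ Subgroup.normalizer (T : Set X)) (hb' : b ∈ Subgroup.normalizer (T : Set X)) (x : F) :
    sig C (a * b) x = sig C a (sig C b x) := by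
  obtain ⟨k, _, σ, hk, -, hs, hax, -⟩ := semilinear C h ha ha'
  obtain ⟨k', _, σ', hk', -, hs', hax', -⟩ := semilinear C h hb hb'
  rw [hs, hs', sig, phi_mul C h ha hb, phi_mul C h ha hb, hax', hax', hax, hax]
  simp only [Matrix.cons_val_zero, map_mul, map_one, mul_one]
  have hσ : σ k' ≠ 0 := (map_ne_zero σ).2 hk'
  field_simp

/-- A `p`-element inducing the identity on the field fixes both layers. -/
theorem layers_of_sig (h : Ctx V G L) {p : ℕ} [Fact p.Prime] [CharP F p] {g : X} (hg : g ∈ G)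
    (hT : g ∈ Subgroup.normalizer (T : Set X)) {j : ℕ} (hj : g ^ p ^ j = 1)
    (hs : ∀ x, sig C g x = x) :
    (∀ x, phi C g ![x, 0] = ![x, 0]) ∧ ∀ v, phi C g v 1 = v 1 := by
  obtain ⟨k, m, σ, hk, hm, hσ, hax, hq⟩ := semilinear C h hg hT
  have hid : ∀ x, σ x = x := fun x => (hσ x).symm.trans (hs x)
  simp only [hid] at hax hq
  have hpow : ∀ n, (∀ x, phi C (g ^ n) ![x, 0] = ![k ^ n * x, 0]) ∧
      ∀ v, phi C (g ^ n) v 1 = m ^ n * v 1 := by
    intro n
    induction n with
    | zero => exact ⟨fun x => by simp [phi_one C h], fun v => by simp [phi_one C h]⟩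
    | succ n ih =>
      constructor
      · intro x
        rw [pow_succ' g, phi_mul C h hg (pow_mem hg n), ih.1, hax, ← mul_assoc, ← pow_succ']
      · intro v
        rw [pow_succ' g, phi_mul C h hg (pow_mem hg n), hq, ih.2, ← mul_assoc, ← pow_succ']
  have key : ∀ z : F, z ^ p ^ j = 1 → z = 1 := fun z hz => by
    have e : (z - 1) ^ p ^ j = 0 := by rw [sub_pow_char_pow, hz, one_pow, sub_self]
    exact sub_eq_zero.1 (eq_zero_of_pow_eq_zero e)
  have hk1 : k = 1 := key k (by
    have e := congrFun ((hpow (p ^ j)).1 1) 0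
    rw [hj, phi_one C h] at e
    simpa using e.symm)
  have hm1 : m = 1 := key m (by
    have e := (hpow (p ^ j)).2 ![0, 1]
    rw [hj, phi_one C h] at e
    simpa using e.symm)
  subst hk1 hm1
  exact ⟨fun x => by rw [hax, one_mul], fun v => by rw [hq, one_mul]⟩

/-- Inside the normaliser of `L` only `T` fixes both layers. -/
theorem mem_of_layers (h : Ctx V G L) {g : X} (hg : g ∈ G)
    (hL : g ∈ Subgroup.normalizer (L : Set X)) (h0 : ∀ x, phi C g ![x, 0] = ![x, 0])
    (h1 : ∀ v, phi C g v 1 = v 1) : g ∈ T := by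
  let f : F → F := fun y => phi C g ![0, y] 0
  have hphi : ∀ v, phi C g v = ![v 0 + f (v 1), v 1] := fun v => by
    rw [vec2_eq (phi C g v), h1 v]
    congr 1
    conv_lhs => rw [show v = ![v 0, 0] + ![0, v 1] by ext i; fin_cases i <;> simp,
      phi_add C h hg, Pi.add_apply, h0]
    rfl
  have hf : ∀ y, f y = f 1 * y := by
    obtain ⟨l, hl⟩ := C.ρ_surj (⟨!![1, 0; 1, 1], by simp [Matrix.det_fin_two]⟩ : SL(2, F))
    have hlv : ∀ v, phi C (l : X) v = ![v 0, v 0 + v 1] := fun v => by
      apply C.c_inj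
      rw [c_phi C h (h.le l.2), C.act, hl]
      congr 1
      ext i; fin_cases i <;> simp [Matrix.mulVec, dotProduct, Fin.sum_univ_two]
    have hm := (Subgroup.mem_normalizer_iff.1 hL _).1 l.2
    let M : Matrix (Fin 2) (Fin 2) F := (C.ρ ⟨_, hm⟩ : SL(2, F))
    have hM : ∀ v, phi C (g * l * g⁻¹) v = M.mulVec v := fun v => by
      apply C.c_inj
      rw [c_phi C h (h.le hm), C.act ⟨_, hm⟩]
    have key : ∀ v, phi C g (phi C (l : X) v) = M.mulVec (phi C g v) := fun v => by
      rw [← hM, ← phi_mul C h hg (h.le l.2), ← phi_mul C h (h.le hm) hg]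
      congr 1
      group
    intro y
    have a := congrFun (key ![0, 1]) 1
    have b := congrFun (key ![0, y]) 1
    have c := congrFun (key ![1, 0]) 1
    have hf0 : f 0 = 0 := by simpa [f] using congrFun (h0 0) 0
    simp [hlv, hphi, Matrix.mulVec, dotProduct, Fin.sum_univ_two, hf0] at a b c
    linear_combination -b + y * a + (f y - y * f 1) * c
  obtain ⟨t, htT, ht⟩ := C.exists_T (-(f 1))
  have htg : (t : X) * g = 1 := by
    refine eq_one_of_phi C h (mul_mem (h.le t.2) hg) fun v => ?_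
    rw [phi_mul C h (h.le t.2) hg, phi_unip C h ht, hphi, hf]
    ext i; fin_cases i <;> simp
  rw [eq_inv_of_mul_eq_one_right htg]
  exact inv_mem htT

theorem mem_of_sig (h : Ctx V G L) {p : ℕ} [Fact p.Prime] [CharP F p] {g : X} (hg : g ∈ G)
    (hT : g ∈ Subgroup.normalizer (T : Set X)) (hL : g ∈ Subgroup.normalizer (L : Set X)) {j : ℕ}
    (hj : g ^ p ^ j = 1) (hs : ∀ x, sig C g x = x) : g ∈ T :=
  mem_of_layers C h hg hL (layers_of_sig C h hg hT hj hs).1 (layers_of_sig C h hg hT hj hs).2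

theorem card_fixed_pow_le [Fintype F] {p : ℕ} [Fact p.Prime] (σ : F →+* F)
    (hp : ∀ x, σ^[p] x = x) (hne : ∃ x, σ x ≠ x) :
    Nat.card {x : F // σ x = x} ^ p ≤ Fintype.card F := by
  classical
  let K : Subfield F := RingHom.eqLocusField σ (RingHom.id F)
  let e : F ≃ₐ[↥K] F := AlgEquiv.ofBijective
    { σ with commutes' := fun x => x.2 } (Finite.injective_iff_bijective.1 σ.injective)
  have hpow : ∀ n x, (e ^ n) x = σ^[n] x := by
    intro n
    induction n with
    | zero => intro x; rfl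
    | succ n ih =>
      intro x
      rw [pow_succ', AlgEquiv.mul_apply, ih, Function.iterate_succ_apply']
      rfl
  have ho : orderOf e = p := orderOf_eq_prime (AlgEquiv.ext fun x => (hpow p x).trans (hp x)) fun e1 => by
    obtain ⟨x, hx⟩ := hne
    exact hx (AlgEquiv.congr_fun e1 x)
  have hle : p ≤ Module.finrank (↥K) F := by
    calc p = orderOf e := ho.symm
      _ ≤ Fintype.card (F ≃ₐ[↥K] F) := orderOf_le_card_univ
      _ ≤ _ := AlgEquiv.card_le
  calc Nat.card {x : F // σ x = x} ^ p = Nat.card (↥K) ^ p := by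
        congr 1
    _ ≤ Nat.card (↥K) ^ Module.finrank (↥K) F := Nat.pow_le_pow_right Nat.card_pos hle
    _ = Fintype.card F := by rw [← Module.natCard_eq_pow_finrank, Nat.card_eq_fintype_card]

theorem card_semilinear_fixed_le [Finite F] (σ : F →+* F) (k : F) :
    Nat.card {x : F // k * σ x = x} ≤ Nat.card {x : F // σ x = x} := by
  by_cases h : ∃ x, x ≠ 0 ∧ k * σ x = x
  · obtain ⟨x₀, h0, hx0⟩ := h
    refine Nat.card_le_card_of_injective (fun x => ⟨x.1 / x₀, ?_⟩) fun x y e => ?_
    · have hσ : σ x₀ ≠ 0 := (map_ne_zero σ).2 h0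
      have hk : k ≠ 0 := fun e => h0 (by rw [← hx0, e, zero_mul])
      conv_rhs => rw [← x.2, ← hx0]
      rw [map_div₀, mul_div_mul_left _ _ hk]
    · exact Subtype.ext ((div_left_inj' h0).1 (congrArg Subtype.val e))
  · push Not at h
    refine Nat.card_le_card_of_injective (fun x => ⟨x.1, ?_⟩) fun x y e => Subtype.ext (show x.1 = y.1 from congrArg (fun z : {x : F // σ x = x} => z.1) e)
    by_cases hx : x.1 = 0
    · rw [hx, map_zero]
    · exact absurd x.2 (h _ hx)

end CfsgLib.LocalEvenB.SL2Spread
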