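/-
Bounds inside a `p`-group normalising a natural `SL₂(F)` and one of its root groups.
-/
import Cfsg.Agent.Lib.LocalEvenB.SL2Spread.Semilinear
import Mathlib.GroupTheory.SpecificGroups.Cyclic
import Mathlib.GroupTheory.Sylow

set_option autoImplicit false

open CfsgLib.LocalEven.NaturalSL2
open scoped Pointwise MatrixGroups

namespace CfsgLib.LocalEvenB.SL2Spread

variable {X : Type*} [Group X]

/-- A Sylow subgroup `P` of `G` normalising `L` and its root group `T`. -/
structure Pad (p : ℕ) (G L T P : Subgroup X) : Prop where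
  le : P ≤ G
  normL : P ≤ Subgroup.normalizer (L : Set X)
  normT : P ≤ Subgroup.normalizer (T : Set X)
  isP : IsPGroup p P
  T_le : T ≤ P
  conj : ∀ Q : Subgroup X, Q ≤ G → IsPGroup p Q → ∃ g ∈ G, MulAut.conj g • Q ≤ P

theorem mem_conj_iff (g x : X) (H : Subgroup X) : x ∈ MulAut.conj g • H ↔ g⁻¹ * x * g ∈ H := by
  rw [Subgroup.mem_pointwise_smul_iff_inv_smul_mem, ← map_inv, MulAut.smul_def, MulAut.conj_apply,
    inv_inv]

theorem conj_mem (g x : X) {H : Subgroup X} (h : x ∈ H) : g * x * g⁻¹ ∈ MulAut.conj g • H := by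
  rw [mem_conj_iff]
  simpa [mul_assoc] using h

theorem card_conj (g : X) (H : Subgroup X) :
    Nat.card (MulAut.conj g • H : Subgroup X) = Nat.card H :=
  (Nat.card_congr (Subgroup.equivSMul (MulAut.conj g) H).toEquiv).symm

variable [Finite X] {F : Type*} [Field F] [Fintype F] {p : ℕ} [Fact p.Prime] [CharP F p]
  {V G L T P : Subgroup X} (C : Coord F V L T)

theorem exists_hom [Algebra (ZMod p) F] (h : Ctx V G L) (hP : Pad p G L T P) :
    ∃ ψ : ↥P →* (F ≃ₐ[ZMod p] F), ∀ a : ↥P, (∀ x, ψ a x = sig C (a : X) x) ∧ (ψ a = 1 → (a : X) ∈ T) := by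
  have hs : ∀ a : ↥P, ∃ e : F ≃ₐ[ZMod p] F, ∀ x, e x = sig C (a : X) x := by
    intro a
    obtain ⟨k, m, σ, -, -, hσ, -⟩ := semilinear C h (hP.le a.2) (hP.normT a.2)
    have hc : ∀ z, σ (algebraMap (ZMod p) F z) = algebraMap (ZMod p) F z := fun z =>
      RingHom.congr_fun (Subsingleton.elim (σ.comp (algebraMap (ZMod p) F)) (algebraMap (ZMod p) F)) z
    refine ⟨AlgEquiv.ofBijective ({ σ with commutes' := hc } : F →ₐ[ZMod p] F)
      (Finite.injective_iff_bijective.1 σ.injective), fun x => (hσ x).symm⟩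
  choose e he using hs
  refine ⟨MonoidHom.mk' e fun a b => AlgEquiv.ext fun x => ?_, fun a => ⟨he a, fun e1 => ?_⟩⟩
  · rw [AlgEquiv.mul_apply, he, he, he]
    exact sig_mul C h (hP.le a.2) (hP.le b.2) (hP.normT a.2) (hP.normT b.2) x
  · obtain ⟨j, hj⟩ := hP.isP a
    refine mem_of_sig C h (hP.le a.2) (hP.normT a.2) (hP.normL a.2)
      (by simpa using congrArg Subtype.val hj) fun x => ?_
    rw [← he a x]
    exact AlgEquiv.congr_fun e1 x

theorem card_le_mul_inf (C : Coord F V L T) (h : Ctx V G L) (hP : Pad p G L T P) (E : Subgroup X) (hE : E ≤ P)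
    (hexp : ∀ e ∈ E, e ^ p = 1) : Nat.card E ≤ p * Nat.card ↥(E ⊓ T) := by
  classical
  letI := ZMod.algebra F p
  obtain ⟨ψ, hψ⟩ := exists_hom C h hP
  let f := ψ.comp (Subgroup.inclusion hE)
  have hk : Nat.card f.ker ≤ Nat.card ↥(E ⊓ T) := by
    refine Nat.card_le_card_of_injective (fun x => ⟨(x.1 : X), x.1.2, (hψ _).2 x.2⟩) fun x y e => ?_
    have e' := congrArg Subtype.val e
    exact Subtype.ext (Subtype.ext e')
  have hr : Nat.card f.range ≤ p := by
    have hc := IsCyclic.card_pow_eq_one_le (α := F ≃ₐ[ZMod p] F) (Fact.out : p.Prime).pos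
    refine le_trans ?_ hc
    rw [← Fintype.card_coe, ← Nat.card_eq_fintype_card]
    refine Nat.card_le_card_of_injective (fun x => ⟨x.1, Finset.mem_filter.2 ⟨Finset.mem_univ _, ?_⟩⟩)
      fun x y e => Subtype.ext (by have e' := congrArg Subtype.val e; exact e')
    obtain ⟨z, hz⟩ := x.2
    rw [← hz, ← map_pow, show z ^ p = 1 from Subtype.ext (by simpa using hexp z z.2), map_one]
  have hcard : Nat.card E = Nat.card f.range * Nat.card f.ker := by
    rw [← Subgroup.index_ker f, Subgroup.index_mul_card]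
  rw [hcard]
  exact Nat.mul_le_mul hr hk

theorem card_T (C : Coord F V L T) : Nat.card T = Fintype.card F := by
  rw [← Nat.card_eq_fintype_card, ← CfsgLib.Classical.card_unipSL (F := F)]
  refine Nat.card_eq_of_bijective
    (fun t : ↥T => (⟨C.ρ ⟨t.1, C.T_le t.2⟩, (C.mem_T _).1 t.2⟩ : ↥(CfsgLib.Classical.unipSL F))) ⟨?_, ?_⟩
  · intro a b e
    exact Subtype.ext (congrArg (fun z : ↥L => (z : X)) (C.ρ_inj (congrArg Subtype.val e)))
  · intro u
    obtain ⟨l, hl⟩ := C.ρ_surj u.1
    exact ⟨⟨l, (C.mem_T l).2 (hl ▸ u.2)⟩, Subtype.ext hl⟩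

theorem card_axis (C : Coord F V L T) : Nat.card C.axis = Fintype.card F := by
  rw [← Nat.card_eq_fintype_card]
  refine (Nat.card_eq_of_bijective (fun x : F => (⟨C.c ![x, 0], x, rfl⟩ : ↥C.axis)) ⟨?_, ?_⟩).symm
  · intro x y e
    simpa using congrFun (C.c_inj (congrArg Subtype.val e)) 0
  · rintro ⟨_, x, rfl⟩
    exact ⟨x, rfl⟩

theorem card_P_le (C : Coord F V L T) (h : Ctx V G L) (hP : Pad p G L T P) {n : ℕ}
    (hn : Fintype.card F = p ^ n) : Nat.card P ≤ Fintype.card F * n := by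
  classical
  letI := ZMod.algebra F p
  obtain ⟨ψ, hψ⟩ := exists_hom C h hP
  have hk : Nat.card ψ.ker ≤ Fintype.card F := by
    rw [← card_T C]
    refine Nat.card_le_card_of_injective (fun x => ⟨(x.1 : X), (hψ _).2 x.2⟩) fun x y e => ?_
    exact Subtype.ext (Subtype.ext (congrArg (fun z : ↥T => (z : X)) e))
  have hr : Nat.card ψ.range ≤ n := by
    refine le_trans (Nat.card_le_card_of_injective _ Subtype.val_injective) ?_
    rw [Nat.card_eq_fintype_card]
    refine le_trans AlgEquiv.card_le (le_of_eq ?_)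
    have e := Module.natCard_eq_pow_finrank (K := ZMod p) (V := F)
    rw [Nat.card_eq_fintype_card, hn, Nat.card_zmod] at e
    exact (Nat.pow_right_injective (Fact.out : p.Prime).two_le e).symm
  have hcard : Nat.card P = Nat.card ψ.range * Nat.card ψ.ker := by
    rw [← Subgroup.index_ker ψ, Subgroup.index_mul_card]
  rw [hcard, mul_comm]
  exact Nat.mul_le_mul hk hr

theorem fixed_outside (h : Ctx V G L) (hP : Pad p G L T P) {a : X} (haP : a ∈ P) (haT : a ∉ T)
    (hap : a ^ p = 1) (hcard : Nat.card ↥(V ⊓ Subgroup.centralizer ({a} : Set X)) = Fintype.card F) :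
    p = 2 ∧ Nat.card ↥(C.axis ⊓ Subgroup.centralizer ({a} : Set X)) ^ 2 = Fintype.card F ∧
      Nat.card ↥(T ⊓ Subgroup.centralizer ({a} : Set X)) ^ 2 ≤ Fintype.card F := by
  classical
  letI := ZMod.algebra F p
  set Z := Subgroup.centralizer ({a} : Set X)
  set A := C.axis ⊓ Z
  obtain ⟨k, m, σ, hk, hm, hσ, hax, hq⟩ := semilinear C h (hP.le haP) (hP.normT haP)
  set f := Nat.card {x : F // σ x = x}
  have hiter : ∀ x, σ^[p] x = x := by
    have e : ∀ n x, σ^[n] x = sig C (a ^ n) x := by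
      intro n
      induction n with
      | zero => intro x; simp [sig, phi_one C h]
      | succ n ih =>
        intro x
        rw [Function.iterate_succ_apply', ih, pow_succ' a,
          sig_mul C h (hP.le haP) (pow_mem (hP.le haP) n) (hP.normT haP) (pow_mem (hP.normT haP) n), hσ]
    intro x
    rw [e, hap]
    simp [sig, phi_one C h]
  have hne : ∃ x, σ x ≠ x := by
    by_contra hcon
    push Not at hcon
    exact haT (mem_of_sig C h (hP.le haP) (hP.normT haP) (hP.normL haP) (p := p) (j := 1)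
      (by rwa [pow_one]) fun x => (hσ x).trans (hcon x))
  have hfp : f ^ p ≤ Fintype.card F := card_fixed_pow_le σ hiter hne
  have hphi : ∀ v, C.c v ∈ Z → phi C a v = v := fun v hv => by
    apply C.c_inj
    rw [c_phi C h (hP.le haP)]
    exact mul_inv_eq_iff_eq_mul.2 (Subgroup.mem_centralizer_singleton_iff.1 hv).symm
  have hA : Nat.card A ≤ f := by
    refine le_trans ?_ (card_semilinear_fixed_le σ k)
    refine Nat.card_le_card_of_injective (fun g : ↥A => ⟨Function.invFun C.c g.1 0, ?_⟩) fun g g' e => ?_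
    · obtain ⟨x, hx⟩ := g.2.1
      rw [← hx, Function.leftInverse_invFun C.c_inj]
      have := congrFun (hphi _ (hx ▸ g.2.2)) 0
      rw [hax] at this
      simpa using this
    · obtain ⟨x, hx⟩ := g.2.1
      obtain ⟨x', hx'⟩ := g'.2.1
      have e' : Function.invFun C.c g.1 0 = Function.invFun C.c g'.1 0 :=
        congrArg (fun z : {x : F // k * σ x = x} => z.1) e
      rw [← hx, ← hx', Function.leftInverse_invFun C.c_inj, Function.leftInverse_invFun C.c_inj] at e'
      exact Subtype.ext (by rw [← hx, ← hx', show x = x' by simpa using e'])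
  let π : ↥(V ⊓ Z) →* Multiplicative F := MonoidHom.mk'
    (fun g => Multiplicative.ofAdd (Function.invFun C.c g.1 1)) fun g g' => by
      obtain ⟨v, hv⟩ := C.c_surj _ g.2.1
      obtain ⟨w, hw⟩ := C.c_surj _ g'.2.1
      rw [Subgroup.coe_mul, ← hv, ← hw, ← C.c_add, Function.leftInverse_invFun C.c_inj,
        Function.leftInverse_invFun C.c_inj, Function.leftInverse_invFun C.c_inj, Pi.add_apply, ofAdd_add]
  have hker : Nat.card π.ker ≤ Nat.card A := by
    refine Nat.card_le_card_of_injective (fun x => ⟨(x.1 : X), Subgroup.mem_inf.2 ⟨?_, x.1.2.2⟩⟩) fun x y e => ?_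
    · obtain ⟨v, hv⟩ := C.c_surj _ x.1.2.1
      rw [← hv, C.mem_axis]
      have e : Multiplicative.ofAdd (Function.invFun C.c x.1.1 1) = 1 := x.2
      rw [← hv, Function.leftInverse_invFun C.c_inj] at e
      exact Multiplicative.ofAdd.injective e
    · exact Subtype.ext (Subtype.ext (congrArg (fun z : ↥A => (z : X)) e))
  have hrange : Nat.card π.range ≤ f := by
    refine le_trans ?_ (card_semilinear_fixed_le σ m)
    refine Nat.card_le_card_of_injective (fun y => ⟨Multiplicative.toAdd y.1, ?_⟩) fun y y' e => ?_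
    · obtain ⟨g, hg⟩ := y.2
      obtain ⟨v, hv⟩ := C.c_surj _ g.2.1
      rw [← hg]
      show m * σ (Function.invFun C.c g.1 1) = Function.invFun C.c g.1 1
      rw [← hv, Function.leftInverse_invFun C.c_inj, ← hq]
      exact congrFun (hphi v (hv ▸ g.2.2)) 1
    · exact Subtype.ext (Multiplicative.toAdd.injective (congrArg (fun z : {x : F // m * σ x = x} => z.1) e))
  have hprod : Fintype.card F = Nat.card π.range * Nat.card π.ker := by
    rw [← Subgroup.index_ker π, Subgroup.index_mul_card, hcard]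
  have hq1 : 1 < Fintype.card F := Fintype.one_lt_card
  have hle : Fintype.card F ≤ f * Nat.card A := hprod ▸ Nat.mul_le_mul hrange hker
  have hle2 : Fintype.card F ≤ f ^ 2 := hle.trans (by rw [sq]; exact Nat.mul_le_mul_left _ hA)
  have hf1 : 1 < f := by
    by_contra hc
    have : f ^ 2 ≤ 1 := Nat.pow_le_one_iff (by norm_num) |>.2 (by omega) |>.trans le_rfl
    omega
  have hp2 : p = 2 := by
    by_contra hc
    have h3 : 3 ≤ p := by have := (Fact.out : p.Prime).two_le; omega
    have h32 := Nat.pow_lt_pow_right hf1 (show 2 < 3 by norm_num)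
    have h3p := Nat.pow_le_pow_right (show 0 < f by omega) h3
    omega
  subst hp2
  have hAf : Nat.card A = f := by
    refine le_antisymm hA (Nat.le_of_mul_le_mul_left ?_ (by omega : 0 < f))
    calc f * f = f ^ 2 := (sq f).symm
      _ ≤ Fintype.card F := hfp
      _ ≤ f * Nat.card A := hle
  refine ⟨rfl, by rw [hAf]; exact le_antisymm hfp hle2, ?_⟩
  obtain ⟨v, hv, hv1⟩ : ∃ v, C.c v ∈ Z ∧ v 1 ≠ 0 := by
    by_contra hcon
    push Not at hcon
    have hsub : V ⊓ Z ≤ A := fun g hg => by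
      obtain ⟨v, rfl⟩ := C.c_surj g hg.1
      exact ⟨(C.mem_axis v).2 (hcon v hg.2), hg.2⟩
    have := Subgroup.card_le_of_le hsub
    rw [hcard, hAf] at this
    have : f ^ 2 ≤ f := hfp.trans this
    nlinarith
  refine le_trans (Nat.pow_le_pow_left ?_ 2) hfp
  rw [← hAf]
  refine Nat.card_le_card_of_injective
    (fun t => ⟨t.1 * C.c v * t.1⁻¹ * (C.c v)⁻¹, Subgroup.mem_inf.2 ⟨?_, ?_⟩⟩) fun t t' e => ?_
  · obtain ⟨l, τ, hlt, hl⟩ := C.exists_param t.2.1
    rw [← hlt, C.conj_c hl, ← C.c_neg, ← C.c_add, C.mem_axis]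
    simp
  · exact mul_mem (mul_mem (mul_mem t.2.2 hv) (inv_mem t.2.2)) (inv_mem hv)
  · have e' : t.1 * C.c v * t.1⁻¹ = t'.1 * C.c v * t'.1⁻¹ :=
      mul_right_cancel (congrArg (fun z : ↥A => (z : X)) e)
    refine Subtype.ext (inv_mul_eq_one.1 ?_).symm
    by_contra hne1
    have hs : t'.1⁻¹ * t.1 ∈ T := mul_mem (inv_mem t'.2.1) t.2.1
    have hc : C.c v ∈ V ⊓ Subgroup.centralizer ({t'.1⁻¹ * t.1} : Set X) := by
      refine ⟨C.c_mem v, Subgroup.mem_centralizer_singleton_iff.2 ?_⟩
      calc C.c v * (t'.1⁻¹ * t.1) = t'.1⁻¹ * (t'.1 * C.c v * t'.1⁻¹) * t.1 := by group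
        _ = t'.1⁻¹ * (t.1 * C.c v * t.1⁻¹) * t.1 := by rw [e']
        _ = t'.1⁻¹ * t.1 * C.c v := by group
    rw [C.centralizer_elem hs hne1, C.mem_axis] at hc
    exact hv1 hc

end CfsgLib.LocalEvenB.SL2Spread
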