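/-
The exceptional case: a group on a space of order sixteen containing `SL₂(4)` in natural action.
-/
import Cfsg.Agent.Lib.LocalEvenB.SL2Spread.Semilinear
import Cfsg.Agent.Lib.LocalEvenB.SL2Spread.Bounds
import Cfsg.Agent.Lib.Sporadic.LinearEight
import Cfsg.Agent.Lib.Classical.Quat.Subfields
import Cfsg.Agent.Lib.Classical.SLBasic
import Mathlib.GroupTheory.Perm.Support

set_option autoImplicit false

open CfsgLib.LocalEven.NaturalSL2
open scoped Pointwise MatrixGroups

namespace CfsgLib.LocalEvenB.SL2Spread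

theorem sl2_four_simple {F : Type*} [Field F] [Fintype F] [CharP F 2] (hF : Fintype.card F = 4) :
    IsSimpleGroup SL(2, F) := by
  haveI : IsSimpleGroup (Matrix.ProjectiveSpecialLinearGroup (Fin 2) F) :=
    CfsgLib.Classical.psl_fin_isSimpleGroup le_rfl fun _ => hF.ge
  have hc : Subgroup.center SL(2, F) = ⊥ := by
    rw [eq_bot_iff]
    intro z hz
    rcases CfsgLib.Classical.sl2_center_eq hz with rfl | rfl
    · exact Subgroup.mem_bot.2 rfl
    · rw [Subgroup.mem_bot]
      apply Subtype.ext
      ext i j; fin_cases i <;> fin_cases j <;> simp [CharTwo.neg_eq]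
  refine MulEquiv.isSimpleGroup (MulEquiv.ofBijective
    (QuotientGroup.mk' (Subgroup.center SL(2, F)) : SL(2, F) →* Matrix.ProjectiveSpecialLinearGroup (Fin 2) F)
    ⟨?_, QuotientGroup.mk'_surjective _⟩)
  rw [← MonoidHom.ker_eq_bot_iff, QuotientGroup.ker_mk', hc]

/-- A subgroup of index eight of `A₈` is `A₇`. -/
theorem index_eight_equiv (H : Subgroup (alternatingGroup (Fin 8))) (hH : H.index = 8) :
    Nonempty (↥H ≃* alternatingGroup (Fin 7)) := by
  classical
  haveI : IsSimpleGroup (alternatingGroup (Fin 8)) :=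
    alternatingGroup.isSimpleGroup (by rw [Nat.card_fin]; norm_num)
  letI : Fintype (alternatingGroup (Fin 8) ⧸ H) := Fintype.ofFinite _
  let Ω := alternatingGroup (Fin 8) ⧸ H
  let f : alternatingGroup (Fin 8) →* Equiv.Perm Ω := MulAction.toPermHom _ Ω
  have hA : Nat.card (alternatingGroup (Fin 8)) = 20160 := by
    rw [Nat.card_eq_fintype_card, card_alternatingGroup]; rfl
  have hinj : Function.Injective f := by
    rw [← MonoidHom.ker_eq_bot_iff]
    refine (inferInstance : f.ker.Normal).eq_bot_or_eq_top.resolve_right fun htop => ?_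
    have hle : f.ker ≤ H := by
      intro x hx
      have e : ((x * 1 : alternatingGroup (Fin 8)) : Ω) = ((1 : alternatingGroup (Fin 8)) : Ω) :=
        show f x ((1 : alternatingGroup (Fin 8)) : Ω) = ((1 : alternatingGroup (Fin 8)) : Ω) by
          rw [MonoidHom.mem_ker.1 hx]; rfl
      rw [mul_one, QuotientGroup.eq, mul_one] at e
      exact inv_mem_iff.1 e
    rw [htop, top_le_iff] at hle
    rw [hle, Subgroup.index_top] at hH
    omega
  let s : alternatingGroup (Fin 8) →* ℤˣ := Equiv.Perm.sign.comp f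
  have hs : ∀ a, s a = 1 := by
    intro a
    rcases (inferInstance : s.ker.Normal).eq_bot_or_eq_top with hb | ht
    · exfalso
      have := Nat.card_le_card_of_injective s ((MonoidHom.ker_eq_bot_iff s).1 hb)
      have h2 : Nat.card ℤˣ = 2 := by rw [Nat.card_eq_fintype_card]; decide
      omega
    · exact MonoidHom.mem_ker.1 (ht ▸ Subgroup.mem_top a)
  let o : Ω := ((1 : alternatingGroup (Fin 8)) : Ω)
  have hfix : ∀ (a : ↥H) (y : Ω), f a y ≠ o ↔ y ≠ o := by
    intro a y
    have e : f a o = o := by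
      show (((a : alternatingGroup (Fin 8)) * 1 : alternatingGroup (Fin 8)) : Ω) = ((1 : alternatingGroup (Fin 8)) : Ω)
      rw [mul_one, QuotientGroup.eq, mul_one]
      exact inv_mem a.2
    conv_lhs => rw [← e]
    exact (f a).injective.ne_iff
  let g : ↥H →* Equiv.Perm {y : Ω // y ≠ o} :=
    MonoidHom.mk' (fun a => (f a).subtypePerm (hfix a)) fun a b => Equiv.ext fun y => Subtype.ext (show f ((a * b : ↥H) : alternatingGroup (Fin 8)) y.1 = f a (f b y.1) by rw [Subgroup.coe_mul, map_mul]; rfl)
  have hg : Function.Injective g := by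
    intro a b e
    refine Subtype.ext (hinj (Equiv.ext fun y => ?_))
    by_cases hy : y = o
    · subst hy
      have h1 := hfix a o
      have h2 := hfix b o
      simp only [ne_eq, not_true, iff_false, not_not] at h1 h2
      rw [h1, h2]
    · exact congrArg Subtype.val (DFunLike.congr_fun e ⟨y, hy⟩)
  have hΩ : Fintype.card Ω = 8 := by rw [← Nat.card_eq_fintype_card]; exact hH
  have h7 : Fintype.card {y : Ω // y ≠ o} = 7 := by
    rw [Fintype.card_subtype_compl, Fintype.card_subtype_eq, hΩ]
  let e7 : Equiv.Perm {y : Ω // y ≠ o} ≃* Equiv.Perm (Fin 7) := (Fintype.equivFinOfCardEq h7).permCongrHom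
  have heven : ∀ a : ↥H, e7 (g a) ∈ alternatingGroup (Fin 7) := by
    intro a
    show Equiv.Perm.sign (e7 (g a)) = 1
    rw [show e7 (g a) = (Fintype.equivFinOfCardEq h7).permCongr (g a) from rfl, Equiv.Perm.sign_permCongr]
    show Equiv.Perm.sign ((f a).subtypePerm (hfix a)) = 1
    rw [Equiv.Perm.sign_subtypePerm]
    · exact hs a
    · intro y hy e
      subst e
      have h1 := hfix a o
      simp only [ne_eq, not_true, iff_false, not_not] at h1
      exact hy h1
  let ψ : ↥H →* alternatingGroup (Fin 7) := (e7.toMonoidHom.comp g).codRestrict _ heven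
  have hψ : Function.Injective ψ := fun a b e => hg (e7.injective (congrArg Subtype.val e))
  have hcH : Nat.card H = 2520 := by
    have := H.index_mul_card
    rw [hH, hA] at this
    omega
  have h7c : Nat.card (alternatingGroup (Fin 7)) = 2520 := by
    rw [Nat.card_eq_fintype_card, card_alternatingGroup]; rfl
  exact ⟨MulEquiv.ofBijective ψ (hψ.bijective_of_nat_card_le (by rw [h7c, hcH]))⟩

/-- There is no subgroup of index six in the symmetric group of degree seven. -/
theorem perm_seven_index_ne_six {α : Type*} [Finite α] (hα : Nat.card α = 7) (H : Subgroup (Equiv.Perm α)) :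
    H.index ≠ 6 := by
  classical
  letI := Fintype.ofFinite α
  intro hH
  haveI : IsSimpleGroup (alternatingGroup α) := alternatingGroup.isSimpleGroup (by rw [hα]; norm_num)
  haveI : Nontrivial α := Finite.one_lt_card_iff_nontrivial.1 (by rw [hα]; norm_num)
  have hP : Nat.card (Equiv.Perm α) = 5040 := by rw [Nat.card_perm, hα]; rfl
  have hA : Nat.card (alternatingGroup α) = 2520 := by
    rw [Nat.card_eq_fintype_card, card_alternatingGroup, ← Nat.card_eq_fintype_card, hα]; rfl
  let f : Equiv.Perm α →* Equiv.Perm (Equiv.Perm α ⧸ H) := MulAction.toPermHom _ _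
  let r : alternatingGroup α →* Equiv.Perm (Equiv.Perm α ⧸ H) := f.comp (alternatingGroup α).subtype
  rcases (inferInstance : r.ker.Normal).eq_bot_or_eq_top with hb | ht
  · have := Nat.card_le_card_of_injective r ((MonoidHom.ker_eq_bot_iff r).1 hb)
    rw [hA, Nat.card_perm, show Nat.card (Equiv.Perm α ⧸ H) = 6 from hH] at this
    simp [Nat.factorial] at this
  · have hle : alternatingGroup α ≤ H := by
      intro x hx
      have hx' : r ⟨x, hx⟩ = 1 := MonoidHom.mem_ker.1 (ht ▸ Subgroup.mem_top _)
      have e : ((x * 1 : Equiv.Perm α) : Equiv.Perm α ⧸ H) = ((1 : Equiv.Perm α) : Equiv.Perm α ⧸ H) :=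
        show r ⟨x, hx⟩ ((1 : Equiv.Perm α) : Equiv.Perm α ⧸ H) = ((1 : Equiv.Perm α) : Equiv.Perm α ⧸ H) by
          rw [hx']; rfl
      rw [mul_one, QuotientGroup.eq, mul_one] at e
      exact inv_mem_iff.1 e
    have h1 := Subgroup.card_le_of_le hle
    have h2 := H.index_mul_card
    rw [hH, hP] at h2
    omega

variable {X : Type*} [Group X] [Finite X]

theorem exists_emb_A8 {V G L : Subgroup X} (h : Ctx V G L) (hV : Cfsg.IsElementaryAbelian 2 V)
    (hV16 : Nat.card V = 16) : ∃ φ : ↥G →* alternatingGroup (Fin 8), Function.Injective φ := by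
  classical
  letI : CommGroup V := { (inferInstance : Group V) with mul_comm := fun a b => hV.1.1.comm a b }
  letI : Module (ZMod 2) (Additive V) := AddCommGroup.zmodModule fun x => by
    rw [two_nsmul]
    exact congrArg Additive.ofMul
      (Subtype.ext (by simpa [sq] using hV.2 x.toMul x.toMul.2) : x.toMul * x.toMul = 1)
  have hrank : Module.finrank (ZMod 2) (Additive V) = 4 := by
    have e := Module.natCard_eq_pow_finrank (K := ZMod 2) (V := Additive V)
    rw [Nat.card_congr Additive.toMul, hV16, Nat.card_zmod] at e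
    exact (Nat.pow_right_injective le_rfl (show 2 ^ 4 = 2 ^ Module.finrank (ZMod 2) (Additive V) from e)).symm
  let b : Module.Basis (Fin 4) (ZMod 2) (Additive V) :=
    (Module.finBasis (ZMod 2) (Additive V)).reindex (finCongr hrank)
  let lin : MulAut V →* (Additive V →ₗ[ZMod 2] Additive V) :=
    { toFun := fun σ => σ.toMonoidHom.toAdditive.toZModLinearMap 2
      map_one' := LinearMap.ext fun _ => rfl
      map_mul' := fun _ _ => LinearMap.ext fun _ => rfl }
  let mat : MulAut V →* Matrix (Fin 4) (Fin 4) (ZMod 2) :=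
    (LinearMap.toMatrixAlgEquiv b).toMulEquiv.toMonoidHom.comp lin
  have hmat : Function.Injective mat := by
    intro σ τ e
    have e' := (LinearMap.toMatrixAlgEquiv b).injective e
    exact MulEquiv.ext fun x => Additive.ofMul.injective (LinearMap.congr_fun e' (Additive.ofMul x))
  let act : ↥G →* MulAut V := V.normalizerMonoidHom.comp (Subgroup.inclusion h.norm)
  have hact : Function.Injective act := by
    rw [injective_iff_map_eq_one]
    intro g hg
    have hc : (g : X) ∈ Subgroup.centralizer (V : Set X) := by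
      refine Subgroup.mem_centralizer_iff.2 fun v hv => ?_
      have e : (g : X) * v * (g : X)⁻¹ = v := congrArg Subtype.val (DFunLike.congr_fun hg (⟨v, hv⟩ : V))
      exact (mul_inv_eq_iff_eq_mul.1 e).symm
    have := Subgroup.mem_inf.2 ⟨g.2, hc⟩
    rw [h.faith, Subgroup.mem_bot] at this
    exact Subtype.ext this
  let Φ : ↥G →* GL (Fin 4) (ZMod 2) := (mat.comp act).toHomUnits
  have hΦ : Function.Injective Φ := fun x y e => hact (hmat (congrArg Units.val e))
  haveI : Fact (Nat.Prime 2) := ⟨Nat.prime_two⟩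
  obtain ⟨e⟩ := CfsgLib.Sporadic.LinearEight.gl_four_two (F := ZMod 2) (ZMod.card 2)
  exact ⟨e.toMonoidHom.comp Φ, e.injective.comp hΦ⟩

variable {F : Type*} [Field F] [Fintype F] [CharP F 2] {V G L T : Subgroup X}

/-- No involution of `G` centralises `L`. -/
theorem eq_one_of_centralizes (C : Coord F V L T) (h : Ctx V G L) {k : X} (hk : k ∈ G) (hk2 : k * k = 1)
    (hc : ∀ l ∈ L, k * l = l * k) : k = 1 := by
  haveI : Fact (Nat.Prime 2) := ⟨Nat.prime_two⟩
  have hn : ∀ S : Subgroup X, S ≤ L → k ∈ Subgroup.normalizer (S : Set X) := fun S hS =>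
    Subgroup.mem_normalizer_iff.2 fun s => ⟨fun hs => by rwa [hc s (hS hs), mul_inv_cancel_right],
      fun hs => by
        have e := hc _ (hS hs)
        have : s = k * s * k⁻¹ := mul_left_cancel (a := k) (by rw [e]; group)
        rwa [this]⟩
  have hT := hn T C.T_le
  have hsig : ∀ x, sig C k x = x := by
    intro x
    obtain ⟨a, m, σ, ha, hm, hσ, hax, hq⟩ := semilinear C h hk hT
    obtain ⟨l, hlT, hl⟩ := C.exists_T x
    have e : phi C k (phi C (l : X) ![0, 1]) = phi C (l : X) (phi C k ![0, 1]) := by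
      rw [← phi_mul C h hk (h.le l.2), ← phi_mul C h (h.le l.2) hk, hc _ l.2]
    rw [phi_unip C h hl, phi_unip C h hl] at e
    simp only [Matrix.cons_val_zero, Matrix.cons_val_one, zero_add, mul_one] at e
    rw [show (![x, 1] : Fin 2 → F) = ![x, 0] + ![0, 1] by ext i; fin_cases i <;> simp,
      phi_add C h hk, hax] at e
    have e0 := congrFun e 0
    simp only [Pi.add_apply, Matrix.cons_val_zero, hq, Matrix.cons_val_one, map_one, mul_one] at e0
    have h1 : a * σ x = x * m := by linear_combination e0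
    obtain ⟨l₁, -, hl₁⟩ := C.exists_T 1
    have e1 : phi C k (phi C (l₁ : X) ![0, 1]) = phi C (l₁ : X) (phi C k ![0, 1]) := by
      rw [← phi_mul C h hk (h.le l₁.2), ← phi_mul C h (h.le l₁.2) hk, hc _ l₁.2]
    rw [phi_unip C h hl₁, phi_unip C h hl₁] at e1
    simp only [Matrix.cons_val_zero, Matrix.cons_val_one, zero_add, mul_one] at e1
    rw [show (![1, 1] : Fin 2 → F) = ![1, 0] + ![0, 1] by ext i; fin_cases i <;> simp,
      phi_add C h hk, hax] at e1
    have e10 := congrFun e1 0
    simp only [Pi.add_apply, Matrix.cons_val_zero, hq, Matrix.cons_val_one, map_one, mul_one] at e10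
    have h2 : a = m := by linear_combination e10
    subst h2
    rw [hσ]
    exact mul_left_cancel₀ ha (h1.trans (mul_comm _ _))
  have hkT : k ∈ T := mem_of_sig C h hk hT (hn L le_rfl) (p := 2) (j := 1) (by rw [pow_one, sq, hk2]) hsig
  obtain ⟨l, t, rfl, hl⟩ := C.exists_param hkT
  obtain ⟨w, hw⟩ := C.ρ_surj (⟨!![0, -1; 1, 0], by simp [Matrix.det_fin_two]⟩ : SL(2, F))
  have e : l * w = w * l := Subtype.ext (hc _ w.2)
  have e' : (C.ρ l : Matrix (Fin 2) (Fin 2) F) * (C.ρ w : SL(2, F)) =
      (C.ρ w : SL(2, F)) * (C.ρ l : Matrix (Fin 2) (Fin 2) F) := by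
    rw [← Matrix.SpecialLinearGroup.coe_mul, ← Matrix.SpecialLinearGroup.coe_mul, ← map_mul, ← map_mul, e]
  rw [hl, hw] at e'
  have ht : t = 0 := by simpa [Matrix.mul_apply, Fin.sum_univ_two] using congrFun (congrFun e' 0) 0
  by_contra hne
  exact C.param_ne_zero hl hne ht

theorem endgame (C : Coord F V L T) (h : Ctx V G L) (hV : Cfsg.IsElementaryAbelian 2 V)
    (hF : Fintype.card F = 4) (hG : ¬ 16 ∣ Nat.card G)
    (hN : 8 ∣ Nat.card ↥(G ⊓ Subgroup.normalizer (L : Set X))) :
    (L.subgroupOf G).Normal ∨ Nonempty (↥G ≃* alternatingGroup (Fin 7)) := by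
  classical
  haveI : Fact (Nat.Prime 2) := ⟨Nat.prime_two⟩
  have hV16 : Nat.card V = 16 := by
    rw [← Nat.card_eq_of_bijective (fun v => (⟨C.c v, C.c_mem v⟩ : V))
      ⟨fun a b e => C.c_inj (congrArg Subtype.val e), fun x => by
        obtain ⟨v, hv⟩ := C.c_surj x.1 x.2
        exact ⟨v, Subtype.ext hv⟩⟩, Nat.card_fun, Nat.card_fin, Nat.card_eq_fintype_card, hF]
    norm_num
  obtain ⟨φ, hφ⟩ := exists_emb_A8 h hV hV16
  haveI := sl2_four_simple hF
  let eL : ↥L ≃* SL(2, F) := MulEquiv.ofBijective C.ρ ⟨C.ρ_inj, C.ρ_surj⟩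
  let L' := L.subgroupOf G
  haveI : IsSimpleGroup ↥L' := MulEquiv.isSimpleGroup ((Subgroup.subgroupOfEquivOfLe h.le).trans eL)
  have hL' : Nat.card L' = 60 := by
    rw [Nat.card_congr ((Subgroup.subgroupOfEquivOfLe h.le).trans eL).toEquiv,
      CfsgLib.Classical.card_sl2 hF]
    norm_num
  let N : Subgroup ↥G := (Subgroup.normalizer (L : Set X)).subgroupOf G
  have hLN : L' ≤ N := fun x hx => Subgroup.le_normalizer hx
  have hLnorm : ∀ x ∈ N, ∀ y ∈ L', x * y * x⁻¹ ∈ L' := fun x hx y hy =>
    (Subgroup.mem_normalizer_iff.1 hx _).1 hy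
  have hN8 : 8 ∣ Nat.card N := by
    have e : Nat.card N = Nat.card ↥(G ⊓ Subgroup.normalizer (L : Set X)) := by
      rw [show N = (G ⊓ Subgroup.normalizer (L : Set X)).subgroupOf G from
        (Subgroup.inf_subgroupOf_left _ _).symm]
      exact Nat.card_congr (Subgroup.subgroupOfEquivOfLe inf_le_left).toEquiv
    exact e ▸ hN
  have h120 : 120 ∣ Nat.card N := by
    have h60 : 60 ∣ Nat.card N := hL' ▸ Subgroup.card_dvd_of_le hLN
    omega
  have hA8 : Nat.card (alternatingGroup (Fin 8)) = 20160 := by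
    rw [Nat.card_eq_fintype_card, card_alternatingGroup]; rfl
  have hdvd : Nat.card G ∣ 20160 := hA8 ▸ Subgroup.card_dvd_of_injective φ hφ
  obtain ⟨j, hj⟩ := h120
  have hij := N.index_mul_card
  rw [hj] at hij
  have hk : N.index * j ∣ 21 := by
    have h168 : N.index * j ∣ 168 := by
      refine Nat.dvd_of_mul_dvd_mul_left (show 0 < 120 by norm_num) ?_
      rw [show 120 * (N.index * j) = N.index * (120 * j) by ring, hij]
      exact hdvd
    have hodd : Nat.Coprime (N.index * j) 8 := by
      refine Nat.Coprime.pow_right 3 (Nat.coprime_comm.1 ((Nat.prime_two.coprime_iff_not_dvd).2 ?_))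
      rintro ⟨c, hc⟩
      refine hG ⟨15 * c, ?_⟩
      rw [← hij, show N.index * (120 * j) = 120 * (N.index * j) by ring, hc]
      ring
    exact hodd.dvd_of_dvd_mul_right (show N.index * j ∣ 21 * 8 from h168)
  have hk4 : N.index * j = 1 ∨ N.index * j = 3 ∨ N.index * j = 7 ∨ N.index * j = 21 := by
    have hle := Nat.le_of_dvd (by norm_num) hk
    interval_cases h' : N.index * j <;> omega
  rcases Nat.eq_or_lt_of_le (Nat.le_of_dvd (by norm_num) hk) with h21 | h21
  · right
    let H := φ.range
    have hH : H.index = 8 := by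
      have e1 := H.index_mul_card
      rw [Nat.card_congr (MonoidHom.ofInjective hφ).symm.toEquiv, hA8, ← hij] at e1
      nlinarith
    obtain ⟨e⟩ := index_eight_equiv H hH
    exact ⟨(MonoidHom.ofInjective hφ).trans e⟩
  left
  have hkey : ∀ g : ↥G, ∀ x ∈ L', g * x * g⁻¹ ∈ L' := by
    by_cases hi : N.index = 1
    · intro g x hx
      exact hLnorm g (by rw [Subgroup.index_eq_one.1 hi]; trivial) x hx
    have hj1 : j = 1 ∧ (N.index = 3 ∨ N.index = 7) := by
      rcases hk4 with e | e | e | e
      · exact absurd (Nat.eq_one_of_mul_eq_one_right e) hi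
      · rcases (Nat.dvd_prime Nat.prime_three).1 ⟨j, e.symm⟩ with e' | e'
        · exact absurd e' hi
        · rw [e'] at e; omega
      · rcases (Nat.dvd_prime (by norm_num : Nat.Prime 7)).1 ⟨j, e.symm⟩ with e' | e'
        · exact absurd e' hi
        · rw [e'] at e; omega
      · omega
    rw [hj1.1, mul_one] at hj
    haveI : (L'.subgroupOf N).Normal := ⟨fun y hy x => hLnorm x.1 x.2 y.1 hy⟩
    have hidx : (L'.subgroupOf N).index = 2 := by
      have e := (L'.subgroupOf N).index_mul_card
      rw [Nat.card_congr (Subgroup.subgroupOfEquivOfLe hLN).toEquiv, hL', hj] at e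
      omega
    let f : ↥G →* Equiv.Perm (↥G ⧸ N) := MulAction.toPermHom _ _
    have hker : f.ker ≤ N := by
      intro x hx
      have e : ((x * 1 : ↥G) : ↥G ⧸ N) = ((1 : ↥G) : ↥G ⧸ N) :=
        show f x ((1 : ↥G) : ↥G ⧸ N) = ((1 : ↥G) : ↥G ⧸ N) by
          rw [MonoidHom.mem_ker.1 hx]; rfl
      rw [mul_one, QuotientGroup.eq, mul_one] at e
      exact inv_mem_iff.1 e
    let r : ↥L' →* Equiv.Perm (↥G ⧸ N) := f.comp L'.subtype
    have hLK : L' ≤ f.ker := by
      rcases (inferInstance : r.ker.Normal).eq_bot_or_eq_top with hb | ht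
      · exfalso
        rcases hj1.2 with h3 | h7
        · have := Nat.card_le_card_of_injective r ((MonoidHom.ker_eq_bot_iff r).1 hb)
          rw [hL', Nat.card_perm, show Nat.card (↥G ⧸ N) = 3 from h3] at this
          simp [Nat.factorial] at this
        have hbot : f.ker = ⊥ := by
          rw [eq_bot_iff]
          intro x hx
          have hdis : ∀ y, y ∈ f.ker → y ∈ L' → y = 1 := fun y hy hy' => by
            have : (⟨y, hy'⟩ : ↥L') ∈ r.ker := hy
            rw [hb, Subgroup.mem_bot] at this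
            exact congrArg Subtype.val this
          have hx2 : x * x = 1 := hdis _ (mul_mem hx hx) (Subgroup.mul_self_mem_of_index_two hidx ⟨x, hker hx⟩)
          have hcen : ∀ l ∈ L', x * l = l * x := by
            intro l hl
            have h1 : x * l * x⁻¹ * l⁻¹ ∈ L' := mul_mem (hLnorm x (hker hx) l hl) (inv_mem hl)
            have h2 : x * l * x⁻¹ * l⁻¹ ∈ f.ker := by
              rw [show x * l * x⁻¹ * l⁻¹ = x * (l * x⁻¹ * l⁻¹) by group]
              exact mul_mem hx ((inferInstance : f.ker.Normal).conj_mem _ (inv_mem hx) l)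
            have e := hdis _ h2 h1
            rw [mul_inv_eq_one, mul_inv_eq_iff_eq_mul] at e
            exact e
          refine Subgroup.mem_bot.2 (Subtype.ext (eq_one_of_centralizes C h x.2 ?_ fun l hl => ?_))
          · exact congrArg Subtype.val hx2
          · exact congrArg Subtype.val (hcen ⟨l, h.le hl⟩ hl)
        have hinj := (MonoidHom.ker_eq_bot_iff f).1 hbot
        apply perm_seven_index_ne_six (show Nat.card (↥G ⧸ N) = 7 from h7) f.range
        have e := f.range.index_mul_card
        rw [Nat.card_congr (MonoidHom.ofInjective hinj).symm.toEquiv, ← hij, h7, hj1.1, Nat.card_perm,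
          show Nat.card (↥G ⧸ N) = 7 from h7] at e
        simp [Nat.factorial] at e
        omega
      · intro x hx
        have hx' : (⟨x, hx⟩ : ↥L') ∈ r.ker := ht ▸ Subgroup.mem_top _
        exact hx'
    intro g x hx
    have hconjN : ∀ y : ↥L', g * (y : ↥G) * g⁻¹ ∈ N := fun y =>
      hker ((inferInstance : f.ker.Normal).conj_mem _ (hLK y.2) g)
    let c : ↥L' →* ↥N ⧸ L'.subgroupOf N := (QuotientGroup.mk' _).comp
      (MonoidHom.codRestrict ((MulAut.conj g).toMonoidHom.comp L'.subtype) N hconjN)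
    rcases (inferInstance : c.ker.Normal).eq_bot_or_eq_top with hb | ht
    · exfalso
      have := Nat.card_le_card_of_injective c ((MonoidHom.ker_eq_bot_iff c).1 hb)
      rw [hL', show Nat.card (↥N ⧸ L'.subgroupOf N) = 2 from hidx] at this
      omega
    · have hx' : c ⟨x, hx⟩ = 1 := MonoidHom.mem_ker.1 (ht ▸ Subgroup.mem_top _)
      exact ((QuotientGroup.eq_one_iff (N := L'.subgroupOf N) (⟨g * x * g⁻¹, hconjN ⟨x, hx⟩⟩ : ↥N)).1 hx' : _)
  exact ⟨fun n hn g => hkey g n hn⟩

end CfsgLib.LocalEvenB.SL2Spread
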