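/-
Conjugates of the root groups of a natural `SL₂(F)` have disjoint fixed spaces, hence lie in `L`.
-/
import Cfsg.Agent.Lib.LocalEvenB.SL2Spread.Bounds

set_option autoImplicit false

open CfsgLib.LocalEven.NaturalSL2
open scoped Pointwise MatrixGroups

namespace CfsgLib.LocalEvenB.SL2Spread

variable {X : Type*} [Group X] {F : Type*} [Field F]
  {p : ℕ} [Fact p.Prime] [CharP F p] {V G L T P : Subgroup X}

/-- The fixed space of the conjugate of `T` by `g`. -/
abbrev Wc (C : Coord F V L T) (g : X) : Subgroup X := MulAut.conj g • C.axis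

theorem axis_le (C : Coord F V L T) : C.axis ≤ V := fun _ ⟨_, hx⟩ => hx ▸ C.c_mem _

theorem V_conj (h : Ctx V G L) {g : X} (hg : g ∈ G) {v : X} (hv : v ∈ V) : g * v * g⁻¹ ∈ V :=
  (Subgroup.mem_normalizer_iff.1 (h.norm hg) v).1 hv

theorem V_conj' (h : Ctx V G L) {g : X} (hg : g ∈ G) {v : X} (hv : v ∈ V) : g⁻¹ * v * g ∈ V := by
  simpa using V_conj h (inv_mem hg) hv

theorem root_le (h : Ctx V G L) (hT : T ≤ L) {g : X} (hg : g ∈ G) : MulAut.conj g • T ≤ G := by
  intro x hx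
  rw [mem_conj_iff] at hx
  have := mul_mem (mul_mem hg (h.le (hT hx))) (inv_mem hg)
  simpa [mul_assoc] using this

theorem Wc_le (C : Coord F V L T) (h : Ctx V G L) {g : X} (hg : g ∈ G) : Wc C g ≤ V := by
  intro x hx
  rw [mem_conj_iff] at hx
  have := V_conj h hg (axis_le C hx)
  simpa [mul_assoc] using this

theorem root_comm (C : Coord F V L T) {g a w : X} (ha : a ∈ MulAut.conj g • T) (hw : w ∈ Wc C g) :
    a * w = w * a := by
  rw [mem_conj_iff] at ha hw
  have e := C.comm_axis hw ha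
  calc a * w = g * (g⁻¹ * a * g * (g⁻¹ * w * g)) * g⁻¹ := by group
    _ = g * (g⁻¹ * w * g * (g⁻¹ * a * g)) * g⁻¹ := by rw [e]
    _ = w * a := by group

theorem root_quad (C : Coord F V L T) (h : Ctx V G L) {g a v : X} (hg : g ∈ G)
    (ha : a ∈ MulAut.conj g • T) (hv : v ∈ V) : a * v * a⁻¹ * v⁻¹ ∈ Wc C g := by
  rw [mem_conj_iff] at ha ⊢
  obtain ⟨u, hu⟩ := C.c_surj _ (V_conj' h hg hv)
  obtain ⟨l, t, hl, hρ⟩ := C.exists_param ha
  have e : g⁻¹ * (a * v * a⁻¹ * v⁻¹) * g =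
      (g⁻¹ * a * g) * (g⁻¹ * v * g) * (g⁻¹ * a * g)⁻¹ * (g⁻¹ * v * g)⁻¹ := by group
  rw [e, ← hu, ← hl, C.conj_c hρ, ← C.c_neg, ← C.c_add, C.mem_axis]
  simp

theorem root_fixed (C : Coord F V L T) (h : Ctx V G L) {g a : X} (hg : g ∈ G)
    (ha : a ∈ MulAut.conj g • T) (ha1 : a ≠ 1) :
    V ⊓ Subgroup.centralizer ({a} : Set X) = Wc C g := by
  refine le_antisymm ?_ fun w hw =>
    ⟨Wc_le C h hg hw, Subgroup.mem_centralizer_singleton_iff.2 (root_comm C ha hw).symm⟩
  rintro w ⟨hwV, hwc⟩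
  rw [mem_conj_iff] at ha ⊢
  have hne : g⁻¹ * a * g ≠ 1 := fun e => ha1 (by
    calc a = g * (g⁻¹ * a * g) * g⁻¹ := by group
      _ = 1 := by rw [e]; group)
  rw [← C.centralizer_elem ha hne]
  refine ⟨V_conj' h hg hwV, Subgroup.mem_centralizer_singleton_iff.2 ?_⟩
  have e := Subgroup.mem_centralizer_singleton_iff.1 hwc
  calc g⁻¹ * w * g * (g⁻¹ * a * g) = g⁻¹ * (w * a) * g := by group
    _ = g⁻¹ * (a * w) * g := by rw [e]
    _ = g⁻¹ * a * g * (g⁻¹ * w * g) := by group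

theorem card_Wc [Finite X] [Fintype F] (C : Coord F V L T) (g : X) : Nat.card (Wc C g) = Fintype.card F := by
  rw [card_conj, card_axis C]

theorem root_pow (C : Coord F V L T) {g a : X} (ha : a ∈ MulAut.conj g • T) : a ^ p = 1 := by
  rw [mem_conj_iff] at ha
  obtain ⟨u, hu⟩ := (C.mem_T ⟨_, C.T_le ha⟩).1 ha
  have e : (⟨_, C.T_le ha⟩ : ↥L) ^ p = 1 := by
    apply C.ρ_inj
    rw [map_pow, map_one, ← hu, ← map_pow, ← ofAdd_toAdd u, ← ofAdd_nsmul, nsmul_eq_mul,
      CharP.cast_eq_zero, zero_mul, ofAdd_zero, map_one]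
  have e' : (g⁻¹ * a * g) ^ p = 1 := by simpa using congrArg Subtype.val e
  have e2 : (g⁻¹ * a * g) ^ p = g⁻¹ * a ^ p * g := by simpa using conj_pow (i := p) (a := g⁻¹) (b := a)
  rw [e2] at e'
  calc a ^ p = g * (g⁻¹ * a ^ p * g) * g⁻¹ := by group
    _ = 1 := by rw [e']; group

variable [Finite X] [Fintype F]

theorem weakly_closed (C : Coord F V L T) (h : Ctx V G L) (hP : Pad p G L T P)
    (hq : Fintype.card F ≠ 4 ∨ P ≤ T) {g : X} (hg : g ∈ G) (hle : MulAut.conj g • T ≤ P) :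
    MulAut.conj g • T = T := by
  refine Subgroup.eq_of_le_of_card_ge ?_ (le_of_eq (card_conj g T).symm)
  by_contra hcon
  obtain ⟨a, ha, haT⟩ := SetLike.not_le_iff_exists.1 hcon
  have hne : a ≠ 1 := fun e => haT (e ▸ T.one_mem)
  obtain ⟨hp, -, hT2⟩ := fixed_outside C h hP (hle ha) haT (root_pow C ha)
    (by rw [root_fixed C h hg ha hne, card_Wc])
  have hE := card_le_mul_inf C h hP _ hle fun e he => root_pow (p := p) C he
  rw [card_conj, card_T C] at hE
  have hsub : (MulAut.conj g • T : Subgroup X) ⊓ T ≤ T ⊓ Subgroup.centralizer ({a} : Set X) := by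
    rintro x ⟨hx1, hx2⟩
    refine ⟨hx2, Subgroup.mem_centralizer_singleton_iff.2 ?_⟩
    have h1 := (mem_conj_iff _ _ _).1 hx1
    have h2 := (mem_conj_iff _ _ _).1 ha
    obtain ⟨u, hu⟩ := (C.mem_T ⟨_, C.T_le h1⟩).1 h1
    obtain ⟨w, hw⟩ := (C.mem_T ⟨_, C.T_le h2⟩).1 h2
    have e : (⟨_, C.T_le h1⟩ * ⟨_, C.T_le h2⟩ : ↥L) = ⟨_, C.T_le h2⟩ * ⟨_, C.T_le h1⟩ := by
      apply C.ρ_inj
      rw [map_mul, map_mul, ← hu, ← hw, ← map_mul, ← map_mul, mul_comm]
    have e' : g⁻¹ * x * g * (g⁻¹ * a * g) = g⁻¹ * a * g * (g⁻¹ * x * g) := congrArg Subtype.val e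
    calc x * a = g * (g⁻¹ * x * g * (g⁻¹ * a * g)) * g⁻¹ := by group
      _ = g * (g⁻¹ * a * g * (g⁻¹ * x * g)) * g⁻¹ := by rw [e']
      _ = a * x := by group
  have hb := Nat.mul_le_mul_left p (Subgroup.card_le_of_le hsub)
  have hall := hE.trans hb
  subst hp
  have h4 : Fintype.card F ≤ 4 := by nlinarith
  obtain ⟨f, hf⟩ : ∃ f, f ^ 2 = Fintype.card F :=
    ⟨_, (fixed_outside C h hP (hle ha) haT (root_pow C ha) (by rw [root_fixed C h hg ha hne, card_Wc])).2.1⟩
  have h1 : 1 < Fintype.card F := Fintype.one_lt_card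
  have hq4 : Fintype.card F = 4 := by
    have : f ≤ 2 := by nlinarith
    interval_cases f <;> omega
  exact haT (hq.resolve_left (not_not.2 hq4) (hle ha))

theorem eq_of_pgroup (C : Coord F V L T) (h : Ctx V G L) (hP : Pad p G L T P)
    (hq : Fintype.card F ≠ 4 ∨ P ≤ T) {Q : Subgroup X} (hQG : Q ≤ G) (hQ : IsPGroup p Q) {g g' : X}
    (hg : g ∈ G) (hg' : g' ∈ G) (h1 : MulAut.conj g • T ≤ Q) (h2 : MulAut.conj g' • T ≤ Q) :
    (MulAut.conj g • T : Subgroup X) = MulAut.conj g' • T := by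
  obtain ⟨k, hk, hkQ⟩ := hP.conj Q hQG hQ
  have key : ∀ {y : X}, y ∈ G → MulAut.conj y • T ≤ Q → (MulAut.conj k • MulAut.conj y • T : Subgroup X) = T := by
    intro y hy hyQ
    have e : (MulAut.conj k • MulAut.conj y • T : Subgroup X) = MulAut.conj (k * y) • T := by
      rw [smul_smul, map_mul]
    rw [e]
    refine weakly_closed C h hP hq (mul_mem hk hy) ?_
    rw [← e]
    exact le_trans (Subgroup.pointwise_smul_le_pointwise_smul_iff.2 hyQ) hkQ
  exact smul_left_cancel (MulAut.conj k) ((key hg h1).trans (key hg' h2).symm)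

/-- Elements acting trivially on `W` and on `V/W`. -/
def stab (h : Ctx V G L) (W : Subgroup X) : Subgroup X where
  carrier := {x | x ∈ G ∧ (∀ w ∈ W, x * w = w * x) ∧ ∀ v ∈ V, x * v * x⁻¹ * v⁻¹ ∈ W}
  one_mem' := ⟨G.one_mem, fun w _ => by simp, fun v _ => by simp⟩
  mul_mem' := by
    rintro x y ⟨hx, hx1, hx2⟩ ⟨hy, hy1, hy2⟩
    refine ⟨mul_mem hx hy, fun w hw => by rw [mul_assoc, hy1 w hw, ← mul_assoc, hx1 w hw, mul_assoc],
      fun v hv => ?_⟩
    have hu := hy2 v hv
    have e : x * y * v * (x * y)⁻¹ * v⁻¹ =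
        (x * (y * v * y⁻¹ * v⁻¹)) * x⁻¹ * (x * v * x⁻¹ * v⁻¹) := by group
    rw [e, hx1 _ hu]
    simpa using mul_mem hu (hx2 v hv)
  inv_mem' := by
    rintro x ⟨hx, hx1, hx2⟩
    refine ⟨inv_mem hx, fun w hw => ?_, fun v hv => ?_⟩
    · rw [inv_mul_eq_iff_eq_mul, ← mul_assoc, hx1 w hw, mul_inv_cancel_right]
    · have hu := hx2 _ (V_conj' h hx hv)
      have e : x⁻¹ * v * x⁻¹⁻¹ * v⁻¹ = (x * (x⁻¹ * v * x) * x⁻¹ * (x⁻¹ * v * x)⁻¹)⁻¹ := by group
      rw [e]
      exact inv_mem hu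

theorem stab_isPGroup (h : Ctx V G L) {W : Subgroup X} (hW : W ≤ V) (hexp : ∀ v ∈ V, v ^ p = 1) :
    IsPGroup p (stab h W) := by
  rintro ⟨x, hx, hx1, hx2⟩
  refine ⟨1, Subtype.ext ?_⟩
  rw [pow_one, Subgroup.coe_pow, Subgroup.coe_one]
  show x ^ p = 1
  have hc : x ^ p ∈ Subgroup.centralizer (V : Set X) := by
    refine Subgroup.mem_centralizer_iff.2 fun v hv => ?_
    set u := x * v * x⁻¹ * v⁻¹ with hu
    have hiter : ∀ n, x ^ n * v * (x ^ n)⁻¹ = u ^ n * v := by
      intro n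
      induction n with
      | zero => simp
      | succ n ih =>
        calc x ^ (n + 1) * v * (x ^ (n + 1))⁻¹ = x * (x ^ n * v * (x ^ n)⁻¹) * x⁻¹ := by
              rw [pow_succ' x n]; group
          _ = (x * u ^ n) * v * x⁻¹ := by rw [ih]; group
          _ = u ^ n * (x * v * x⁻¹) := by rw [hx1 (u ^ n) (pow_mem (hx2 v hv) n)]; simp only [mul_assoc]
          _ = u ^ (n + 1) * v := by
            rw [show x * v * x⁻¹ = u * v by rw [hu]; group, ← mul_assoc, ← pow_succ]
    have e := hiter p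
    rw [hexp u (hW (hx2 v hv)), one_mul] at e
    exact (mul_inv_eq_iff_eq_mul.1 e).symm
  simpa [h.faith] using Subgroup.mem_inf.2 ⟨pow_mem hx p, hc⟩

theorem root_eq_of_Wc (C : Coord F V L T) (h : Ctx V G L) (hP : Pad p G L T P)
    (hq : Fintype.card F ≠ 4 ∨ P ≤ T) (hexp : ∀ v ∈ V, v ^ p = 1) {g g' : X} (hg : g ∈ G) (hg' : g' ∈ G)
    (hW : Wc C g = Wc C g') : (MulAut.conj g • T : Subgroup X) = MulAut.conj g' • T := by
  refine eq_of_pgroup C h hP hq (Q := stab h (Wc C g)) (fun x hx => hx.1)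
    (stab_isPGroup h (Wc_le C h hg) hexp) hg hg' (fun x hx => ?_) fun x hx => ?_
  · exact ⟨root_le h C.T_le hg hx, fun w hw => root_comm C hx hw, fun v hv => root_quad C h hg hx hv⟩
  · exact ⟨root_le h C.T_le hg' hx, fun w hw => root_comm C hx (hW ▸ hw),
      fun v hv => hW ▸ root_quad C h hg' hx hv⟩

theorem spread (C : Coord F V L T) (h : Ctx V G L) (hP : Pad p G L T P)
    (hq : Fintype.card F ≠ 4 ∨ P ≤ T) (hexp : ∀ v ∈ V, v ^ p = 1) {g g' : X} (hg : g ∈ G) (hg' : g' ∈ G)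
    (hne : (MulAut.conj g • T : Subgroup X) ≠ MulAut.conj g' • T) : Wc C g ⊓ Wc C g' = ⊥ := by
  suffices key : ∀ m, ∀ g g' : X, g ∈ G → g' ∈ G →
      (MulAut.conj g • T : Subgroup X) ≠ MulAut.conj g' • T →
      Fintype.card F - Nat.card ↥(Wc C g ⊓ Wc C g') = m → Wc C g ⊓ Wc C g' = ⊥ from
    key _ g g' hg hg' hne rfl
  intro m
  induction m using Nat.strong_induction_on with
  | _ m ih =>
    intro g g' hg hg' hne hm
    by_contra hD
    set D := Wc C g ⊓ Wc C g' with hDdef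
    have hWne : ¬ Wc C g' ≤ Wc C g := fun hle => hne
      (root_eq_of_Wc C h hP hq hexp hg hg'
        (Subgroup.eq_of_le_of_card_ge hle (le_of_eq (by rw [card_Wc, card_Wc]))).symm)
    obtain ⟨w, hw, hwn⟩ := SetLike.not_le_iff_exists.1 hWne
    have hwV := Wc_le C h hg' hw
    let R := (MulAut.conj g • T : Subgroup X)
    let φ : ↥R → ↥(Wc C g) := fun s => ⟨s.1 * w * s.1⁻¹ * w⁻¹, root_quad C h hg s.2 hwV⟩
    have hφ : Function.Injective φ := by
      intro s t e
      by_contra hst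
      have e' : s.1 * w * s.1⁻¹ = t.1 * w * t.1⁻¹ := mul_right_cancel (congrArg Subtype.val e)
      have hts : t.1⁻¹ * s.1 ∈ R := mul_mem (inv_mem t.2) s.2
      have hts1 : t.1⁻¹ * s.1 ≠ 1 := fun e1 => hst (Subtype.ext (inv_mul_eq_one.1 e1).symm)
      refine hwn ?_
      rw [← root_fixed C h hg hts hts1]
      refine ⟨hwV, Subgroup.mem_centralizer_singleton_iff.2 ?_⟩
      calc w * (t.1⁻¹ * s.1) = t.1⁻¹ * (t.1 * w * t.1⁻¹) * s.1 := by group
        _ = t.1⁻¹ * (s.1 * w * s.1⁻¹) * s.1 := by rw [e']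
        _ = t.1⁻¹ * s.1 * w := by group
    have hφs : Function.Surjective φ :=
      (hφ.bijective_of_nat_card_le (by rw [card_Wc, card_conj, card_T C])).2
    let R' := (MulAut.conj g' • T : Subgroup X)
    let A := R ⊓ Subgroup.normalizer (R' : Set X)
    have hmemA : ∀ s : ↥R, (φ s : X) ∈ D → s.1 ∈ A := by
      intro s hs
      refine ⟨s.2, ?_⟩
      have hsG := root_le h C.T_le hg s.2
      have e0 : (MulAut.conj s.1 • R' : Subgroup X) = MulAut.conj (s.1 * g') • T := by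
        simp only [R', smul_smul, map_mul]
      have hlt : Nat.card D < Nat.card ↥(Wc C g' ⊓ Wc C (s.1 * g')) := by
        have hmemW : ∀ {z : X}, z ∈ Wc C g' → s.1 * z * s.1⁻¹ ∈ Wc C (s.1 * g') := fun {z} hz => by
          rw [mem_conj_iff] at hz ⊢
          convert hz using 1
          group
        have hle : D ≤ Wc C g' ⊓ Wc C (s.1 * g') := fun z hz => by
          refine ⟨hz.2, ?_⟩
          have := hmemW hz.2
          rwa [root_comm C s.2 hz.1, mul_inv_cancel_right] at this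
        refine lt_of_le_of_ne (Subgroup.card_le_of_le hle) fun e => hwn ?_
        have hsw : s.1 * w * s.1⁻¹ ∈ Wc C g' ⊓ Wc C (s.1 * g') := by
          refine ⟨?_, hmemW hw⟩
          have := mul_mem (Subgroup.mem_inf.1 hs).2 hw
          rw [show s.1 * w * s.1⁻¹ = (s.1 * w * s.1⁻¹ * w⁻¹) * w by group]
          exact this
        rw [← Subgroup.eq_of_le_of_card_ge hle (le_of_eq e.symm)] at hsw
        have h3 : (s.1 * w * s.1⁻¹ * w⁻¹)⁻¹ * (s.1 * w * s.1⁻¹) ∈ Wc C g :=
          mul_mem (inv_mem (root_quad C h hg s.2 hwV)) hsw.1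
        convert h3 using 1
        group
      have heq : (MulAut.conj (s.1 * g') • T : Subgroup X) = R' := by
        by_contra hcon
        have hd : Nat.card ↥(Wc C g' ⊓ Wc C (s.1 * g')) ≤ Fintype.card F :=
          (Subgroup.card_le_of_le inf_le_left).trans_eq (card_Wc C g')
        have := ih (Fintype.card F - Nat.card ↥(Wc C g' ⊓ Wc C (s.1 * g'))) (by omega) g' (s.1 * g')
          hg' (mul_mem hsG hg') (Ne.symm hcon) rfl
        rw [this, Subgroup.card_bot] at hlt
        have : 0 < Nat.card D := Nat.card_pos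
        omega
      refine Subgroup.mem_normalizer_iff.2 fun z => ?_
      conv_rhs => rw [← heq, ← e0, mem_conj_iff]
      rw [show s.1⁻¹ * (s.1 * z * s.1⁻¹) * s.1 = z by group]
    have hDA : Nat.card D ≤ Nat.card A := by
      choose sec hsec using hφs
      have hin : ∀ d : ↥D, (sec ⟨d.1, d.2.1⟩).1 ∈ A := fun d =>
        hmemA _ (by rw [hsec]; exact d.2)
      refine Nat.card_le_card_of_injective (fun d => ⟨_, hin d⟩) fun d d' e => ?_
      have e1 : sec ⟨d.1, d.2.1⟩ = sec ⟨d'.1, d'.2.1⟩ := Subtype.ext (by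
        have e2 := congrArg Subtype.val e; exact e2)
      have e3 := congrArg φ e1
      rw [hsec, hsec] at e3
      exact Subtype.ext (by simpa using congrArg Subtype.val e3)
    have hAR' : A ⊓ R' = ⊥ := by
      rw [eq_bot_iff]
      rintro a ⟨⟨ha, -⟩, ha'⟩
      by_contra ha1
      have ha1' : a ≠ 1 := ha1
      exact hne (root_eq_of_Wc C h hP hq hexp hg hg'
        ((root_fixed C h hg ha ha1').symm.trans (root_fixed C h hg' ha' ha1')))
    have hR'p : IsPGroup p R' := fun x => ⟨1, Subtype.ext (by simpa using root_pow (p := p) C x.2)⟩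
    have hAp : IsPGroup p A := fun x => ⟨1, Subtype.ext (by simpa using root_pow (p := p) C x.2.1)⟩
    have hQG : A ⊔ R' ≤ G :=
      sup_le (inf_le_left.trans (root_le h C.T_le hg)) (root_le h C.T_le hg')
    obtain ⟨k, hk, hkQ⟩ := hP.conj (A ⊔ R') hQG (hAp.to_sup_of_normal_right' hR'p inf_le_right)
    have hkT : (MulAut.conj (k * g') • T : Subgroup X) = T :=
      weakly_closed C h hP hq (mul_mem hk hg') (by
        rw [map_mul, ← smul_smul]
        exact le_trans (Subgroup.pointwise_smul_le_pointwise_smul_iff.2 le_sup_right) hkQ)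
    have hAP : (MulAut.conj k • A : Subgroup X) ≤ P :=
      le_trans (Subgroup.pointwise_smul_le_pointwise_smul_iff.2 le_sup_left) hkQ
    have hAR : (MulAut.conj k • A : Subgroup X) ≤ MulAut.conj (k * g) • T := by
      rw [map_mul, ← smul_smul]
      exact Subgroup.pointwise_smul_le_pointwise_smul_iff.2 inf_le_left
    have hAT : (MulAut.conj k • A : Subgroup X) ⊓ T = ⊥ := by
      conv_lhs => arg 2; rw [← hkT, map_mul, ← smul_smul]
      rw [← Subgroup.smul_inf, show A ⊓ MulAut.conj g' • T = ⊥ from hAR', Subgroup.smul_bot]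
    have hE := card_le_mul_inf C h hP _ hAP fun e he => root_pow (p := p) C (hAR he)
    rw [hAT, Subgroup.card_bot, mul_one, card_conj] at hE
    have hD1 : 1 < Nat.card D := (Subgroup.one_lt_card_iff_ne_bot D).2 hD
    have hA1 : (MulAut.conj k • A : Subgroup X) ≠ ⊥ :=
      (Subgroup.one_lt_card_iff_ne_bot _).1 (by rw [card_conj]; omega)
    obtain ⟨⟨a, ha⟩, hane⟩ := Subgroup.ne_bot_iff_exists_ne_one.1 hA1
    have ha1 : a ≠ 1 := fun e => hane (Subtype.ext e)
    have haT : a ∉ T := fun hc => ha1 (by simpa [hAT] using Subgroup.mem_inf.2 ⟨ha, hc⟩)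
    have hfix := root_fixed C h (mul_mem hk hg) (hAR ha) ha1
    obtain ⟨hp, hf, -⟩ := fixed_outside C h hP (hAP ha) haT (root_pow C (hAR ha))
      (by rw [hfix, card_Wc])
    have hax : C.axis ⊓ Subgroup.centralizer ({a} : Set X) = MulAut.conj k • D := by
      have h1 : C.axis = MulAut.conj k • Wc C g' := by
        have hkn : (k * g') ∈ G := mul_mem hk hg'
        have e1 := root_fixed C h G.one_mem (g := 1) (a := a)
        rw [← C.centralizer_T]
        ext z
        rw [mem_conj_iff]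
        constructor
        · rintro ⟨hzV, hzc⟩
          obtain ⟨l, hlT, hl⟩ := C.exists_T 1
          have hl1 : (l : X) ≠ 1 := by
            intro e
            have e' : l = 1 := Subtype.ext e
            rw [e', map_one] at hl
            simpa using congrFun (congrFun hl 0) 1
          have hlk : k⁻¹ * (l : X) * k ∈ MulAut.conj g' • T := by
            have := hlT
            rw [← hkT, map_mul, ← smul_smul, mem_conj_iff] at this
            exact this
          rw [← root_fixed C h hg' hlk (fun e => hl1 (by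
            calc (l : X) = k * (k⁻¹ * l * k) * k⁻¹ := by group
              _ = 1 := by rw [e]; group))]
          refine ⟨V_conj' h hk hzV, Subgroup.mem_centralizer_singleton_iff.2 ?_⟩
          have e := Subgroup.mem_centralizer_iff.1 hzc _ hlT
          calc k⁻¹ * z * k * (k⁻¹ * (l : X) * k) = k⁻¹ * (z * l) * k := by group
            _ = k⁻¹ * ((l : X) * z) * k := by rw [← e]
            _ = k⁻¹ * (l : X) * k * (k⁻¹ * z * k) := by group
        · intro hz
          refine ⟨?_, Subgroup.mem_centralizer_iff.2 fun t ht => ?_⟩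
          · have := V_conj h hk (Wc_le C h hg' hz)
            simpa [mul_assoc] using this
          · have ht' : k⁻¹ * t * k ∈ MulAut.conj g' • T := by
              rw [SetLike.mem_coe, ← hkT, map_mul, ← smul_smul, mem_conj_iff] at ht
              exact ht
            have e := root_comm C ht' hz
            calc t * z = k * (k⁻¹ * t * k * (k⁻¹ * z * k)) * k⁻¹ := by group
              _ = k * (k⁻¹ * z * k * (k⁻¹ * t * k)) * k⁻¹ := by rw [e]
              _ = z * t := by group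
      have h2 : C.axis ⊓ Subgroup.centralizer ({a} : Set X) = C.axis ⊓ Wc C (k * g) := by
        rw [← hfix, ← inf_assoc, inf_eq_left.2 (axis_le C)]
      rw [h2, hDdef, Subgroup.smul_inf, inf_comm]
      conv_lhs => arg 2; rw [h1]
      simp only [Wc, smul_smul, map_mul]
    rw [hax, card_conj] at hf
    subst hp
    have hq4 : Fintype.card F = 4 := by
      have : Nat.card D = 2 := by omega
      rw [← hf, this]
      norm_num
    exact haT (hq.resolve_left (not_not.2 hq4) (hAP ha))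

theorem conj_le (C : Coord F V L T) (h : Ctx V G L) (hP : Pad p G L T P)
    (hq : Fintype.card F ≠ 4 ∨ P ≤ T) (hexp : ∀ v ∈ V, v ^ p = 1) {g : X} (hg : g ∈ G) :
    MulAut.conj g • T ≤ L := by
  classical
  let u : Fin 2 → F := Function.invFun C.c (g * C.c ![1, 0] * g⁻¹)
  have hu : C.c u = g * C.c ![1, 0] * g⁻¹ := c_phi C h hg _
  have hu0 : u ≠ 0 := fun e => by
    rw [e, C.c_zero] at hu
    have h1 : C.c ![1, 0] = C.c 0 := by
      rw [C.c_zero]
      calc C.c ![1, 0] = g⁻¹ * (g * C.c ![1, 0] * g⁻¹) * g := by group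
        _ = 1 := by rw [← hu]; group
    simpa using congrFun (C.c_inj h1) 0
  obtain ⟨M, hM⟩ : ∃ M : SL(2, F), (M : Matrix (Fin 2) (Fin 2) F).mulVec ![1, 0] = u := by
    by_cases h0 : u 0 = 0
    · have h1 : u 1 ≠ 0 := fun e => hu0 (by ext i; fin_cases i <;> assumption)
      refine ⟨⟨!![0, -(u 1)⁻¹; u 1, 0], by simp [Matrix.det_fin_two, h1]⟩, ?_⟩
      ext i; fin_cases i <;> simp [Matrix.mulVec, dotProduct, Fin.sum_univ_two, h0]
    · refine ⟨⟨!![u 0, 0; u 1, (u 0)⁻¹], by simp [Matrix.det_fin_two, h0]⟩, ?_⟩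
      ext i; fin_cases i <;> simp [Matrix.mulVec, dotProduct, Fin.sum_univ_two]
  obtain ⟨l, hl⟩ := C.ρ_surj M
  have hlG := h.le l.2
  have hax : C.c ![1, 0] ∈ C.axis := ⟨1, rfl⟩
  have h1 : C.c u ∈ Wc C g ⊓ Wc C (l : X) := by
    refine ⟨hu ▸ conj_mem g _ hax, ?_⟩
    rw [← hM, ← hl, ← C.act]
    exact conj_mem _ _ hax
  have heq : (MulAut.conj g • T : Subgroup X) = MulAut.conj (l : X) • T := by
    by_contra hne
    rw [spread C h hP hq hexp hg hlG hne, Subgroup.mem_bot] at h1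
    exact hu0 (C.c_inj (h1.trans C.c_zero.symm))
  rw [heq]
  intro x hx
  rw [mem_conj_iff] at hx
  have := mul_mem (mul_mem l.2 (C.T_le hx)) (inv_mem l.2)
  simpa [mul_assoc] using this

theorem normal_of_pad (C : Coord F V L T) (h : Ctx V G L) (hP : Pad p G L T P)
    (hq : Fintype.card F ≠ 4 ∨ P ≤ T) (hexp : ∀ v ∈ V, v ^ p = 1) : (L.subgroupOf G).Normal := by
  classical
  suffices key : ∀ g ∈ G, ∀ l : ↥L, g * (l : X) * g⁻¹ ∈ L by
    exact ⟨fun n hn g => by
      rw [Subgroup.mem_subgroupOf] at hn ⊢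
      simpa using key g.1 g.2 ⟨_, hn⟩⟩
  intro g hg l
  let K : Subgroup ↥L := L.comap ((MulAut.conj g).toMonoidHom.comp L.subtype)
  obtain ⟨w, hw⟩ := C.ρ_surj (⟨!![0, -1; 1, 0], by simp [Matrix.det_fin_two]⟩ : SL(2, F))
  have h0 : ∀ t : ↥L, (t : X) ∈ T → t ∈ K := fun t ht => by
    show g * (t : X) * g⁻¹ ∈ L
    exact conj_le C h hP hq hexp hg (conj_mem g _ ht)
  have h1 : ∀ t : ↥L, (t : X) ∈ T → w * t * w⁻¹ ∈ K := fun t ht => by
    show g * ((w * t * w⁻¹ : ↥L) : X) * g⁻¹ ∈ L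
    have := conj_le C h hP hq hexp (mul_mem hg (h.le w.2)) (conj_mem (g * w) _ ht)
    simpa [mul_assoc] using this
  have htop : K.map C.ρ = ⊤ := by
    refine CfsgLib.Classical.sl2_transvections_generate _ (fun c => ?_) fun c => ?_
    · obtain ⟨t, htT, ht⟩ := C.exists_T c
      exact ⟨t, h0 t htT, Subtype.ext (ht.trans (CfsgLib.Classical.uSL_coe c).symm)⟩
    · obtain ⟨t, htT, ht⟩ := C.exists_T (-c)
      refine ⟨_, h1 t htT, ?_⟩
      rw [map_mul, map_mul, map_inv, mul_inv_eq_iff_eq_mul]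
      apply Subtype.ext
      rw [Matrix.SpecialLinearGroup.coe_mul, Matrix.SpecialLinearGroup.coe_mul, hw, ht]
      show _ = (1 + Matrix.single 1 0 c) * _
      ext i j; fin_cases i <;> fin_cases j <;> simp [Matrix.mul_apply, Fin.sum_univ_two]
  obtain ⟨k, hk, hkl⟩ : C.ρ l ∈ K.map C.ρ := htop ▸ Subgroup.mem_top _
  rw [← C.ρ_inj hkl]
  exact hk

end CfsgLib.LocalEvenB.SL2Spread
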